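import Cfsg.Agent.Lib.Invol.GL25.Phi
import Cfsg.Agent.Lib.Char.Complete

/-!
# A character of degree four of `GL(2,5)`

The cuspidal character of a character of order three of the cyclic subgroup of order 24; it is irreducible, and it
is `1` on the elements of order three.
-/

set_option autoImplicit false
set_option maxRecDepth 100000

namespace Cfsg.Agent.Invol.GL25

open scoped ComplexConjugate
open Cfsg Cfsg.Agent.Char Cfsg.Agent.Block

/-- Exponent modulo 3. -/
def lgW (v : V) : Fin 3 := Fin.ofNat 3 (pwList.idxOf v)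

theorem lgW_mul : ∀ v ∈ units.filter (fun v => pT v = true), ∀ w ∈ units.filter (fun v => pT v = true),
    lgW (mv v w) = lgW v + lgW w := by decide +kernel

/-- Counts for the character of order three. -/
def cntW : Fin 24 → Fin 3 → ℕ :=
  ![![20, 0, 0], ![20, 0, 0], ![20, 0, 0], ![20, 0, 0], ![0, 0, 0], ![2, 0, 0], ![0, 0, 0], ![2, 0, 0], ![0, 1, 1], ![0, 1, 1], ![0, 0, 0], ![0, 0, 0], ![0, 0, 0], ![0, 0, 0], ![0, 1, 1], ![0, 1, 1], ![0, 0, 0], ![0, 0, 0], ![0, 1, 1], ![0, 1, 1], ![0, 1, 1], ![0, 1, 1], ![0, 0, 0], ![0, 0, 0]]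

theorem cntW_spec : ∀ t k, cntOf pT lgW t k = 24 * cntW t k := by decide +kernel

theorem cntW_sym : ∀ t, cntW t 1 = cntW t 2 := by decide +kernel

/-- The values. -/
def etaTab : Fin 24 → ℤ :=
  ![4, 4, 4, 4, 0, -2, 0, -2, 1, 1, -1, 0, -1, 0, 1, 1, -1, 0, 1, 1, 1, 1, -1, 0]

theorem eta_eq : ∀ t, ((etaTab t, 0) : ℤ × ℤ) =
    gmul (gR 0 0 t) (gR 0 0 t) - gR 0 0 t - gR 0 0 t - ((cntW t 0 : ℤ) - cntW t 1, 0) := by decide +kernel

/-- A cube root of unity. -/
noncomputable def omega : ℂ := Complex.exp (2 * Real.pi * Complex.I / 3)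

theorem omega_isPrimitive : IsPrimitiveRoot omega 3 := by
  simpa [omega] using Complex.isPrimitiveRoot_exp 3 (by norm_num)

theorem omega_cube : omega ^ 3 = 1 := omega_isPrimitive.pow_eq_one

theorem omega_sum : 1 + omega + omega ^ 2 = 0 := by
  have h := omega_isPrimitive.geom_sum_eq_zero (by norm_num)
  simpa [Finset.sum_range_succ] using h

theorem ind_W (g : Q) :
    indFun Tor (fun x => (logHom omega omega_cube lgW lgW_mul x : ℂ)) g =
      toC ((cntW (ty g) 0 : ℤ) - cntW (ty g) 1, 0) := by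
  refine (ind_log omega omega_cube lgW lgW_mul card_pT cntW cntW_spec g).trans ?_
  generalize ty g = t
  simp only [Fin.sum_univ_three, Fin.val_zero, Fin.val_one, Fin.val_two, toC, ← cntW_sym t]
  push_cast
  linear_combination (cntW t 1 : ℂ) * omega_sum

/-- The function. -/
noncomputable def Eta : Q → ℂ := fun g => (etaTab (ty g) : ℂ)

theorem eta_lift : Eta = lift fun t => (etaTab t, 0) := funext fun g => by simp [Eta, lift, toC]

theorem intInner_Eta : IntInner Eta := by
  have hW : IntInner (lift fun t => ((cntW t 0 : ℤ) - cntW t 1, 0)) := by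
    have e : (lift fun t => ((cntW t 0 : ℤ) - cntW t 1, 0)) =
        indFun Tor (fun x => (logHom omega omega_cube lgW lgW_mul x : ℂ)) := funext fun g => (ind_W g).symm
    rw [e]; exact IntInner.ind _ _
  have e : (fun t => ((etaTab t, 0) : ℤ × ℤ)) = (fun t => gmul (gR 0 0 t) (gR 0 0 t)) - gR 0 0 - gR 0 0 -
      fun t => ((cntW t 0 : ℤ) - cntW t 1, 0) := funext eta_eq
  rw [eta_lift, e]
  exact lift_sub (lift_sub (lift_sub lift_mul (lift_R le_rfl)) (lift_R le_rfl)) hW

theorem eta_norm_table : ∑ t, (size t : ℤ) * (etaTab t * etaTab t) = 480 := by decide +kernel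

theorem eta_one : Eta 1 = 4 := by
  have h : etaTab (tyv ov) = 4 := by decide +kernel
  show (etaTab (tyv (toV 1)) : ℂ) = 4
  rw [toV_one, h]; norm_num

theorem eta_classFun : IsClassFunction Q Eta := fun a b => by
  show (etaTab (ty (b * a * b⁻¹)) : ℂ) = _
  have h := ty_conj b⁻¹ a
  rw [inv_inv] at h
  rw [h]
  rfl

/-- The character is irreducible. -/
theorem eta_irr : IsIrrCharacter Q Eta := by
  classical
  have hn : ∀ η : IrrCharacter Q, ∃ n : ℤ, classInner Eta (η : Q → ℂ) = (n : ℂ) := fun η =>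
    intInner_Eta _ (IsIrr.isCharacter η.2)
  choose n hn using hn
  have hexp : Eta = ∑ η : IrrCharacter Q, (n η : ℂ) • (η : Q → ℂ) :=
    (classFunction_expansion eta_classFun).trans (Finset.sum_congr rfl fun η _ => by rw [hn η])
  have hnorm : ∑ η : IrrCharacter Q, n η * n η = 1 := by
    have h1 : classInner Eta Eta = 1 := by
      show classInner (fun g => (fun t => (etaTab t : ℂ)) (ty g)) (fun g => (fun t => (etaTab t : ℂ)) (ty g)) = 1
      rw [classInner_ty (fun t => (etaTab t : ℂ)) (fun t => (etaTab t : ℂ))]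
      have h2 : ((∑ t, (size t : ℤ) * (etaTab t * etaTab t) : ℤ) : ℂ) = 480 := by
        rw [eta_norm_table]; norm_num
      push_cast at h2
      simp only [map_intCast]
      rw [h2]; norm_num
    rw [hexp, classInner_sum_sum] at h1
    simp only [map_intCast] at h1
    exact_mod_cast h1
  obtain ⟨η₀, h0⟩ : ∃ η₀, n η₀ ≠ 0 := by
    by_contra hc
    push Not at hc
    simp [hc] at hnorm
  have h2 := Finset.add_sum_erase Finset.univ (fun η => n η * n η) (Finset.mem_univ η₀)
  have hsum0 : 0 ≤ ∑ η ∈ Finset.univ.erase η₀, n η * n η := Finset.sum_nonneg fun η _ => mul_self_nonneg _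
  have h3 : 0 < n η₀ * n η₀ := mul_self_pos.2 h0
  have hz : ∀ η, η ≠ η₀ → n η = 0 := fun η hη => by
    have h4 : ∑ η ∈ Finset.univ.erase η₀, n η * n η = 0 := by omega
    have := (Finset.sum_eq_zero_iff_of_nonneg fun η _ => mul_self_nonneg (n η)).1 h4 η
      (Finset.mem_erase.2 ⟨hη, Finset.mem_univ _⟩)
    exact mul_self_eq_zero.1 this
  have hE : Eta = (n η₀ : ℂ) • (η₀ : Q → ℂ) := by
    rw [hexp]
    exact Finset.sum_eq_single η₀ (fun η _ hη => by simp [hz η hη]) (fun h => absurd (Finset.mem_univ _) h)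
  have hone : n η₀ = 1 := by
    obtain ⟨m, hm, he⟩ := IsIrr.one_eq_pos η₀.2
    have h1 := congrFun hE 1
    rw [eta_one, Pi.smul_apply, smul_eq_mul, he] at h1
    have h5 : (4 : ℤ) = n η₀ * m := by exact_mod_cast h1
    rcases Int.eq_one_or_neg_one_of_mul_eq_one (show n η₀ * n η₀ = 1 by omega) with e | e
    · exact e
    · rw [e] at h5; omega
  rw [hE, hone, Int.cast_one, one_smul]
  exact η₀.2

end Cfsg.Agent.Invol.GL25
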