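import Cfsg.Agent.Lib.Invol.GL25.PhiTables

/-!
# Nine generalised characters of `GL(2,5)` supported on the roots of the central involution

They are integral combinations of linear characters, their products and induced ones.
-/

set_option autoImplicit false
set_option maxRecDepth 100000

namespace Cfsg.Agent.Invol.GL25

open scoped ComplexConjugate
open Cfsg Cfsg.Agent.Char Cfsg.Agent.Block

theorem I_pow_four : Complex.I ^ 4 = 1 := by
  rw [show (4 : ℕ) = 2 * 2 by norm_num, pow_mul, Complex.I_sq]; norm_num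

/-- An eighth root of unity. -/
noncomputable def zeta : ℂ := Complex.exp (2 * Real.pi * Complex.I / 8)

theorem zeta_sq : zeta ^ 2 = Complex.I := by
  rw [zeta, ← Complex.exp_nat_mul,
    show ((2 : ℕ) : ℂ) * (2 * Real.pi * Complex.I / 8) = Real.pi / 2 * Complex.I by push_cast; ring]
  exact Complex.exp_pi_div_two_mul_I

theorem zeta_eight : zeta ^ 8 = 1 := by
  rw [show (8 : ℕ) = 2 * 4 by norm_num, pow_mul, zeta_sq, I_pow_four]

theorem ind_B (i j : Fin 4) (h : i ≤ j) (g : Q) :
    indFun Bor (fun x => (logHom Complex.I I_pow_four (lgB i j) (fun v hv w hw => lgB_mul v hv w hw i j) x : ℂ)) g =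
      toC (gR i j (ty g)) := by
  refine (ind_log Complex.I I_pow_four (lgB i j) (fun v hv w hw => lgB_mul v hv w hw i j) card_pB (cntB i j)
    (cntB_spec i j h) g).trans ?_
  simp only [Fin.sum_univ_four, Fin.val_zero, Fin.val_one, Fin.val_two, toC, gR, pow_zero, pow_one,
    show ((3 : Fin 4) : ℕ) = 3 from rfl]
  push_cast
  linear_combination ((cntB i j (ty g) 2 : ℂ) + (cntB i j (ty g) 3 : ℂ) * Complex.I) * Complex.I_sq

theorem ind_T (m : Fin 8) (c : Fin 24 → Fin 8 → ℕ) (hc : ∀ t k, cntOf pT (lgT m) t k = 24 * c t k)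
    (hsym : ∀ t, c t 1 = c t 5 ∧ c t 3 = c t 7) (g : Q) :
    indFun Tor (fun x => (logHom zeta zeta_eight (lgT m) (fun v hv w hw => lgT_mul v hv w hw m) x : ℂ)) g =
      toC (gTh c (ty g)) := by
  refine (ind_log zeta zeta_eight (lgT m) (fun v hv w hw => lgT_mul v hv w hw m) card_pT c hc g).trans ?_
  generalize ty g = t
  obtain ⟨e1, e3⟩ := hsym t
  simp only [Fin.sum_univ_eight, Fin.val_zero, Fin.val_one, Fin.val_two, toC, gTh,
    show ((3 : Fin 8) : ℕ) = 3 from rfl, show ((4 : Fin 8) : ℕ) = 4 from rfl, show ((5 : Fin 8) : ℕ) = 5 from rfl,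
    show ((6 : Fin 8) : ℕ) = 6 from rfl, show ((7 : Fin 8) : ℕ) = 7 from rfl, e1, e3]
  push_cast
  linear_combination
    ((c t 2 : ℂ) + (c t 6 : ℂ) * (zeta ^ 4 + zeta ^ 2 * Complex.I + Complex.I ^ 2) +
      ((c t 4 : ℂ) + (c t 5 : ℂ) * zeta + (c t 7 : ℂ) * zeta ^ 3) * (zeta ^ 2 + Complex.I)) * zeta_sq +
    ((c t 4 : ℂ) + (c t 5 : ℂ) * zeta + (c t 7 : ℂ) * zeta ^ 3 + (c t 6 : ℂ) * Complex.I) * Complex.I_sq

/-! ### Integrality -/

/-- Has integral inner products with characters. -/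
def IntInner (f : Q → ℂ) : Prop := ∀ ξ : Q → ℂ, IsCharacter Q ξ → ∃ n : ℤ, classInner f ξ = (n : ℂ)

theorem IntInner.ind (H : Subgroup Q) (l : H →* ℂˣ) : IntInner (indFun H fun h => (l h : ℂ)) := by
  classical
  intro ξ hξ
  rw [classInner_indFun H _ (IsChar.classFun hξ)]
  obtain ⟨n, hn⟩ := IsChar.classInner_nat (Star.isCharacter_hom l) (IsChar.res hξ H)
  exact ⟨n, by rw [hn]; simp⟩

theorem IntInner.hom (l : Q →* ℂˣ) : IntInner fun g => (l g : ℂ) := by
  intro ξ hξ
  obtain ⟨n, hn⟩ := IsChar.classInner_nat (Star.isCharacter_hom l) hξ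
  exact ⟨n, by rw [hn]; simp⟩

theorem IntInner.add {f h : Q → ℂ} (hf : IntInner f) (hh : IntInner h) : IntInner (f + h) := by
  intro ξ hξ
  obtain ⟨a, ha⟩ := hf ξ hξ
  obtain ⟨b, hb⟩ := hh ξ hξ
  refine ⟨a + b, ?_⟩
  rw [Int.cast_add, ← ha, ← hb]
  simp only [classInner, Pi.add_apply, add_mul, Finset.sum_add_distrib, mul_add]

theorem IntInner.neg {f : Q → ℂ} (hf : IntInner f) : IntInner (-f) := by
  intro ξ hξ
  obtain ⟨a, ha⟩ := hf ξ hξ
  refine ⟨-a, ?_⟩
  rw [Int.cast_neg, ← ha]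
  simp only [classInner, Pi.neg_apply, neg_mul, Finset.sum_neg_distrib, mul_neg]

theorem IntInner.sub {f h : Q → ℂ} (hf : IntInner f) (hh : IntInner h) : IntInner (f - h) := by
  rw [sub_eq_add_neg]; exact hf.add hh.neg

theorem IntInner.mul_ind {f : Q → ℂ} (hf : IntInner f) (H : Subgroup Q) (l : H →* ℂˣ) :
    IntInner (f * indFun H fun h => (l h : ℂ)) := by
  intro ξ hξ
  obtain ⟨a, ha⟩ := hf _ (IsChar.mul hξ (IsChar.conj (isCharacter_indFun H (Star.isCharacter_hom l))))
  refine ⟨a, ?_⟩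
  rw [← ha]
  simp only [classInner, Pi.mul_apply, map_mul, Complex.conj_conj]
  exact congrArg _ (Finset.sum_congr rfl fun g _ => by ring)

/-- The determinant characters. -/
noncomputable def detHom (j : Fin 4) : Q →* ℂˣ :=
  MonoidHom.mk' (fun g => (isUnit_of_pow I_pow_four (by norm_num)).unit ^ ((j * dlog (dv (toV g))) : Fin 4).val)
    fun g h => by
      have key : ∀ a b : ZMod 5, a ≠ 0 → b ≠ 0 → ∀ j : Fin 4, j * dlog (a * b) = j * dlog a + j * dlog b := by
        decide +kernel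
      have hm : dv (toV (g * h)) = dv (toV g) * dv (toV h) := by
        rw [dv_toV, dv_toV, dv_toV, Units.val_mul, Matrix.det_mul]
      show _ ^ ((j * dlog (dv (toV (g * h)))) : Fin 4).val = _
      rw [hm, key _ _ (dv_ne_zero g) (dv_ne_zero h), ← pow_add, Fin.val_add, ← pow_eq_pow_mod]
      exact Units.ext (by simp [I_pow_four])

theorem det_spec (j : Fin 4) (g : Q) : (detHom j g : ℂ) = toC (gL j (ty g)) := by
  have h : dlog (dv (toV g)) = dlog (dv (rep (ty g))) := by
    obtain ⟨x, hx⟩ := isConj_el g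
    conv_lhs => rw [← hx]
    rw [dv_toV, Units.val_mul, Units.val_mul, Matrix.det_mul, Matrix.det_mul, ← dv_toV, ← dv_toV, ← dv_toV,
      toV_el, mul_comm (dv (toV x⁻¹)), mul_assoc, dv_toV, dv_toV, ← Matrix.det_mul, ← Units.val_mul,
      inv_mul_cancel]
    simp
  simp only [detHom, MonoidHom.mk'_apply, Units.val_pow_eq_pow_val, IsUnit.unit_spec, h, gL]
  generalize j * dlog (dv (rep (ty g))) = k
  fin_cases k <;> simp [toC, gI, pow_succ]

/-! ### The nine functions -/

/-- The functions. -/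
noncomputable def Phi (i : Fin 9) : Q → ℂ := fun g => toC (gtab i (ty g))

/-- A table as a function on the group. -/
noncomputable def lift (f : Fin 24 → ℤ × ℤ) : Q → ℂ := fun g => toC (f (ty g))

theorem lift_add {f f' : Fin 24 → ℤ × ℤ} (a : IntInner (lift f)) (b : IntInner (lift f')) :
    IntInner (lift (f + f')) := by
  have e : lift (f + f') = lift f + lift f' := funext fun g => toC_add _ _
  rw [e]; exact a.add b

theorem lift_sub {f f' : Fin 24 → ℤ × ℤ} (a : IntInner (lift f)) (b : IntInner (lift f')) :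
    IntInner (lift (f - f')) := by
  have e : lift (f - f') = lift f - lift f' := funext fun g => toC_sub _ _
  rw [e]; exact a.sub b

theorem lift_L (j : Fin 4) : IntInner (lift (gL j)) := by
  have e : lift (gL j) = fun g => (detHom j g : ℂ) := funext fun g => (det_spec j g).symm
  rw [e]; exact IntInner.hom _

theorem lift_R {i j : Fin 4} (h : i ≤ j) : IntInner (lift (gR i j)) := by
  have e : lift (gR i j) = indFun Bor (fun x =>
      (logHom Complex.I I_pow_four (lgB i j) (fun v hv w hw => lgB_mul v hv w hw i j) x : ℂ)) :=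
    funext fun g => (ind_B i j h g).symm
  rw [e]; exact IntInner.ind _ _

theorem lift_T (m : Fin 8) (c : Fin 24 → Fin 8 → ℕ) (hc : ∀ t k, cntOf pT (lgT m) t k = 24 * c t k)
    (hsym : ∀ t, c t 1 = c t 5 ∧ c t 3 = c t 7) : IntInner (lift (gTh c)) := by
  have e : lift (gTh c) = indFun Tor (fun x =>
      (logHom zeta zeta_eight (lgT m) (fun v hv w hw => lgT_mul v hv w hw m) x : ℂ)) :=
    funext fun g => (ind_T m c hc hsym g).symm
  rw [e]; exact IntInner.ind _ _

theorem lift_mul {k : Fin 4} : IntInner (lift fun t => gmul (gR 0 k t) (gR 0 0 t)) := by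
  have e : (lift fun t => gmul (gR 0 k t) (gR 0 0 t)) = lift (gR 0 k) *
      indFun Bor (fun x => (logHom Complex.I I_pow_four (lgB 0 0) (fun v hv w hw => lgB_mul v hv w hw 0 0) x : ℂ)) :=
    funext fun g => by rw [Pi.mul_apply, ind_B 0 0 le_rfl g]; exact toC_gmul _ _
  rw [e]; exact (lift_R (Fin.zero_le k)).mul_ind _ _

theorem lift_S (j : Fin 4) : IntInner (lift (gS j)) := by
  have e : gS j = gR j j - gL j := rfl
  rw [e]; exact lift_sub (lift_R le_rfl) (lift_L j)

theorem lift_C1 : IntInner (lift gC1) := by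
  have e : gC1 = (fun t => gmul (gR 0 3 t) (gR 0 0 t)) - gR 0 3 - gR 0 3 - gTh cntT1 := rfl
  rw [e]
  exact lift_sub (lift_sub (lift_sub lift_mul (lift_R (Fin.zero_le 3))) (lift_R (Fin.zero_le 3)))
    (lift_T 1 cntT1 cntT1_spec (by decide +kernel))

theorem lift_C3 : IntInner (lift gC3) := by
  have e : gC3 = (fun t => gmul (gR 0 1 t) (gR 0 0 t)) - gR 0 1 - gR 0 1 - gTh cntT3 := rfl
  rw [e]
  exact lift_sub (lift_sub (lift_sub lift_mul (lift_R (Fin.zero_le 1))) (lift_R (Fin.zero_le 1)))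
    (lift_T 3 cntT3 cntT3_spec (by decide +kernel))

theorem intInner_of {i : Fin 9} {f : Fin 24 → ℤ × ℤ} (hf : IntInner (lift f)) (e : ∀ t, gtab i t = f t) :
    IntInner (Phi i) := by
  have e' : Phi i = lift f := funext fun g => congrArg toC (e _)
  rw [e']; exact hf

theorem intInner_Phi (i : Fin 9) : IntInner (Phi i) := by
  have h01 : (0 : Fin 4) ≤ 1 := Fin.zero_le _
  have h13 : (1 : Fin 4) ≤ 3 := by decide
  have h12 : (1 : Fin 4) ≤ 2 := by decide
  have h23 : (2 : Fin 4) ≤ 3 := by decide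
  fin_cases i
  · exact intInner_of (lift_sub lift_C1 lift_C3) fun t => (gtab_eq t).1
  · exact intInner_of (lift_add (lift_sub (lift_L 3) (lift_S 3)) lift_C3) fun t => (gtab_eq t).2.1
  · exact intInner_of (lift_sub (lift_add (lift_L 3) (lift_S 1)) (lift_R h13)) fun t => (gtab_eq t).2.2.1
  · exact intInner_of (lift_add (lift_sub (lift_L 2) (lift_S 2)) lift_C3) fun t => (gtab_eq t).2.2.2.1
  · exact intInner_of (lift_sub (lift_add (lift_L 2) (lift_S 0)) (lift_R (Fin.zero_le 2))) fun t =>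
      (gtab_eq t).2.2.2.2.1
  · exact intInner_of (lift_add (lift_sub (lift_L 1) (lift_S 1)) lift_C3) fun t => (gtab_eq t).2.2.2.2.2.1
  · exact intInner_of (lift_add (lift_sub (lift_L 0) (lift_S 0)) lift_C3) fun t => (gtab_eq t).2.2.2.2.2.2.1
  · exact intInner_of (lift_add (lift_sub (lift_sub (lift_R (Fin.zero_le 2)) (lift_R (Fin.zero_le 3))) (lift_R h12))
      (lift_R h13)) fun t => (gtab_eq t).2.2.2.2.2.2.2.1
  · exact intInner_of (lift_add (lift_sub (lift_sub (lift_R h01) (lift_R (Fin.zero_le 2))) (lift_R h13))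
      (lift_R h23)) fun t => (gtab_eq t).2.2.2.2.2.2.2.2

/-- Weighted inner product of two tables. -/
theorem classInner_tables (f h : Fin 24 → ℤ × ℤ) :
    classInner (fun g : Q => toC (f (ty g))) (fun g => toC (h (ty g))) =
      (480 : ℂ)⁻¹ * toC (∑ t, gmul ((size t : ℤ), 0) (gmul (f t) (gconj (h t)))) := by
  rw [classInner_ty (fun t => toC (f t)) (fun t => toC (h t)), toC_sum]
  congr 1
  refine Finset.sum_congr rfl fun t _ => ?_
  rw [toC_gmul, toC_gmul, toC_gconj]
  simp [toC]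

theorem gram_spec (i j : Fin 9) : classInner (Phi i) (Phi j) = (gram i j : ℂ) := by
  show classInner (fun g => toC (gtab i (ty g))) (fun g => toC (gtab j (ty g))) = _
  rw [classInner_tables, gram_table]
  simp [toC]

theorem trivial_spec (i : Fin 9) :
    classInner (Phi i) (fun _ : Q => 1) = ((![0, 0, 0, 0, 0, 0, 1, 0, 0] i : ℤ) : ℂ) := by
  rw [show (fun _ : Q => (1 : ℂ)) = fun g => toC ((fun _ : Fin 24 => ((1, 0) : ℤ × ℤ)) (ty g)) from
    funext fun _ => by simp [toC]]
  show classInner (fun g => toC (gtab i (ty g))) _ = _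
  refine (classInner_tables (gtab i) fun _ => (1, 0)).trans ?_
  rw [trivial_table]
  simp [toC]

end Cfsg.Agent.Invol.GL25
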