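import Cfsg.Agent.Lib.Invol.GL25.Table

/-!
# `GL(2,5)`: the tables of nine generalised characters

They span the functions of this kind in the principal 2-block; their values are Gaussian integers.
-/

set_option autoImplicit false
set_option maxRecDepth 100000

namespace Cfsg.Agent.Invol.GL25

open scoped ComplexConjugate
open Cfsg Cfsg.Agent.Char Cfsg.Agent.Block

/-! ### Gaussian integers -/

/-- A pair as a complex number. -/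
def toC (p : ℤ × ℤ) : ℂ := (p.1 : ℂ) + (p.2 : ℂ) * Complex.I

/-- Product. -/
def gmul (p q : ℤ × ℤ) : ℤ × ℤ := (p.1 * q.1 - p.2 * q.2, p.1 * q.2 + p.2 * q.1)

/-- Conjugate. -/
def gconj (p : ℤ × ℤ) : ℤ × ℤ := (p.1, -p.2)

theorem toC_gmul (p q : ℤ × ℤ) : toC (gmul p q) = toC p * toC q := by
  simp only [toC, gmul]; push_cast
  linear_combination (-(p.2 : ℂ) * q.2) * Complex.I_mul_I

theorem toC_gconj (p : ℤ × ℤ) : toC (gconj p) = conj (toC p) := by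
  simp [toC, gconj]

theorem toC_add (p q : ℤ × ℤ) : toC (p + q) = toC p + toC q := by
  simp only [toC, Prod.fst_add, Prod.snd_add]; push_cast; ring

theorem toC_sub (p q : ℤ × ℤ) : toC (p - q) = toC p - toC q := by
  simp only [toC, Prod.fst_sub, Prod.snd_sub]; push_cast; ring

theorem toC_injective : Function.Injective toC := fun p q h => by
  have h1 := congrArg Complex.re h
  have h2 := congrArg Complex.im h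
  simp [toC] at h1 h2
  exact Prod.ext h1 h2

theorem toC_zero : toC 0 = 0 := by simp [toC]

theorem toC_sum {ι : Type*} (s : Finset ι) (f : ι → ℤ × ℤ) : toC (∑ i ∈ s, f i) = ∑ i ∈ s, toC (f i) := by
  classical
  induction s using Finset.induction_on with
  | empty => simp [toC_zero]
  | insert a s ha ih => rw [Finset.sum_insert ha, Finset.sum_insert ha, toC_add, ih]

/-! ### The counts -/

/-- Counts for the triangular subgroup. -/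
def cntB : Fin 4 → Fin 4 → Fin 24 → Fin 4 → ℕ := fun i j =>
  match i, j with
  | 0, 0 => ![![6, 0, 0, 0], ![6, 0, 0, 0], ![6, 0, 0, 0], ![6, 0, 0, 0], ![2, 0, 0, 0], ![0, 0, 0, 0],
      ![2, 0, 0, 0], ![0, 0, 0, 0], ![0, 0, 0, 0], ![0, 0, 0, 0], ![1, 0, 0, 0], ![2, 0, 0, 0], ![1, 0, 0, 0],
      ![2, 0, 0, 0], ![0, 0, 0, 0], ![0, 0, 0, 0], ![1, 0, 0, 0], ![2, 0, 0, 0], ![0, 0, 0, 0], ![0, 0, 0, 0],
      ![0, 0, 0, 0], ![0, 0, 0, 0], ![1, 0, 0, 0], ![2, 0, 0, 0]]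
  | 0, 1 => ![![6, 0, 0, 0], ![0, 6, 0, 0], ![0, 0, 6, 0], ![0, 0, 0, 6], ![0, 1, 0, 1], ![0, 0, 0, 0],
      ![1, 0, 1, 0], ![0, 0, 0, 0], ![0, 0, 0, 0], ![0, 0, 0, 0], ![0, 0, 0, 1], ![0, 1, 1, 0], ![1, 0, 0, 0],
      ![0, 0, 1, 1], ![0, 0, 0, 0], ![0, 0, 0, 0], ![0, 0, 1, 0], ![1, 1, 0, 0], ![0, 0, 0, 0], ![0, 0, 0, 0],
      ![0, 0, 0, 0], ![0, 0, 0, 0], ![0, 1, 0, 0], ![1, 0, 0, 1]]
  | 0, 2 => ![![6, 0, 0, 0], ![0, 0, 6, 0], ![6, 0, 0, 0], ![0, 0, 6, 0], ![0, 0, 2, 0], ![0, 0, 0, 0],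
      ![2, 0, 0, 0], ![0, 0, 0, 0], ![0, 0, 0, 0], ![0, 0, 0, 0], ![0, 0, 1, 0], ![1, 0, 1, 0], ![1, 0, 0, 0],
      ![1, 0, 1, 0], ![0, 0, 0, 0], ![0, 0, 0, 0], ![1, 0, 0, 0], ![1, 0, 1, 0], ![0, 0, 0, 0], ![0, 0, 0, 0],
      ![0, 0, 0, 0], ![0, 0, 0, 0], ![0, 0, 1, 0], ![1, 0, 1, 0]]
  | 0, 3 => ![![6, 0, 0, 0], ![0, 0, 0, 6], ![0, 0, 6, 0], ![0, 6, 0, 0], ![0, 1, 0, 1], ![0, 0, 0, 0],
      ![1, 0, 1, 0], ![0, 0, 0, 0], ![0, 0, 0, 0], ![0, 0, 0, 0], ![0, 1, 0, 0], ![0, 0, 1, 1], ![1, 0, 0, 0],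
      ![0, 1, 1, 0], ![0, 0, 0, 0], ![0, 0, 0, 0], ![0, 0, 1, 0], ![1, 0, 0, 1], ![0, 0, 0, 0], ![0, 0, 0, 0],
      ![0, 0, 0, 0], ![0, 0, 0, 0], ![0, 0, 0, 1], ![1, 1, 0, 0]]
  | 1, 1 => ![![6, 0, 0, 0], ![0, 0, 6, 0], ![6, 0, 0, 0], ![0, 0, 6, 0], ![2, 0, 0, 0], ![0, 0, 0, 0],
      ![0, 0, 2, 0], ![0, 0, 0, 0], ![0, 0, 0, 0], ![0, 0, 0, 0], ![0, 0, 1, 0], ![0, 0, 0, 2], ![1, 0, 0, 0],
      ![0, 2, 0, 0], ![0, 0, 0, 0], ![0, 0, 0, 0], ![1, 0, 0, 0], ![0, 2, 0, 0], ![0, 0, 0, 0], ![0, 0, 0, 0],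
      ![0, 0, 0, 0], ![0, 0, 0, 0], ![0, 0, 1, 0], ![0, 0, 0, 2]]
  | 1, 2 => ![![6, 0, 0, 0], ![0, 0, 0, 6], ![0, 0, 6, 0], ![0, 6, 0, 0], ![0, 1, 0, 1], ![0, 0, 0, 0],
      ![1, 0, 1, 0], ![0, 0, 0, 0], ![0, 0, 0, 0], ![0, 0, 0, 0], ![0, 1, 0, 0], ![1, 1, 0, 0], ![1, 0, 0, 0],
      ![1, 0, 0, 1], ![0, 0, 0, 0], ![0, 0, 0, 0], ![0, 0, 1, 0], ![0, 1, 1, 0], ![0, 0, 0, 0], ![0, 0, 0, 0],
      ![0, 0, 0, 0], ![0, 0, 0, 0], ![0, 0, 0, 1], ![0, 0, 1, 1]]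
  | 1, 3 => ![![6, 0, 0, 0], ![6, 0, 0, 0], ![6, 0, 0, 0], ![6, 0, 0, 0], ![0, 0, 2, 0], ![0, 0, 0, 0],
      ![0, 0, 2, 0], ![0, 0, 0, 0], ![0, 0, 0, 0], ![0, 0, 0, 0], ![1, 0, 0, 0], ![0, 1, 0, 1], ![1, 0, 0, 0],
      ![0, 1, 0, 1], ![0, 0, 0, 0], ![0, 0, 0, 0], ![1, 0, 0, 0], ![0, 1, 0, 1], ![0, 0, 0, 0], ![0, 0, 0, 0],
      ![0, 0, 0, 0], ![0, 0, 0, 0], ![1, 0, 0, 0], ![0, 1, 0, 1]]
  | 2, 2 => ![![6, 0, 0, 0], ![6, 0, 0, 0], ![6, 0, 0, 0], ![6, 0, 0, 0], ![2, 0, 0, 0], ![0, 0, 0, 0],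
      ![2, 0, 0, 0], ![0, 0, 0, 0], ![0, 0, 0, 0], ![0, 0, 0, 0], ![1, 0, 0, 0], ![0, 0, 2, 0], ![1, 0, 0, 0],
      ![0, 0, 2, 0], ![0, 0, 0, 0], ![0, 0, 0, 0], ![1, 0, 0, 0], ![0, 0, 2, 0], ![0, 0, 0, 0], ![0, 0, 0, 0],
      ![0, 0, 0, 0], ![0, 0, 0, 0], ![1, 0, 0, 0], ![0, 0, 2, 0]]
  | 2, 3 => ![![6, 0, 0, 0], ![0, 6, 0, 0], ![0, 0, 6, 0], ![0, 0, 0, 6], ![0, 1, 0, 1], ![0, 0, 0, 0],
      ![1, 0, 1, 0], ![0, 0, 0, 0], ![0, 0, 0, 0], ![0, 0, 0, 0], ![0, 0, 0, 1], ![1, 0, 0, 1], ![1, 0, 0, 0],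
      ![1, 1, 0, 0], ![0, 0, 0, 0], ![0, 0, 0, 0], ![0, 0, 1, 0], ![0, 0, 1, 1], ![0, 0, 0, 0], ![0, 0, 0, 0],
      ![0, 0, 0, 0], ![0, 0, 0, 0], ![0, 1, 0, 0], ![0, 1, 1, 0]]
  | 3, 3 => ![![6, 0, 0, 0], ![0, 0, 6, 0], ![6, 0, 0, 0], ![0, 0, 6, 0], ![2, 0, 0, 0], ![0, 0, 0, 0],
      ![0, 0, 2, 0], ![0, 0, 0, 0], ![0, 0, 0, 0], ![0, 0, 0, 0], ![0, 0, 1, 0], ![0, 2, 0, 0], ![1, 0, 0, 0],
      ![0, 0, 0, 2], ![0, 0, 0, 0], ![0, 0, 0, 0], ![1, 0, 0, 0], ![0, 0, 0, 2], ![0, 0, 0, 0], ![0, 0, 0, 0],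
      ![0, 0, 0, 0], ![0, 0, 0, 0], ![0, 0, 1, 0], ![0, 2, 0, 0]]
  | _, _ => fun _ _ => 0

/-- Counts for the cyclic subgroup of order 24. -/
def cntT1 : Fin 24 → Fin 8 → ℕ :=
  ![![20, 0, 0, 0, 0, 0, 0, 0], ![0, 0, 0, 0, 0, 0, 20, 0], ![0, 0, 0, 0, 20, 0, 0, 0], ![0, 0, 20, 0, 0, 0, 0, 0],
      ![0, 0, 0, 0, 0, 0, 0, 0], ![0, 1, 0, 0, 0, 1, 0, 0], ![0, 0, 0, 0, 0, 0, 0, 0], ![0, 0, 0, 1, 0, 0, 0, 1],
      ![0, 0, 0, 0, 2, 0, 0, 0], ![0, 1, 0, 0, 0, 1, 0, 0], ![0, 0, 0, 0, 0, 0, 0, 0], ![0, 0, 0, 0, 0, 0, 0, 0],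
      ![0, 0, 0, 0, 0, 0, 0, 0], ![0, 0, 0, 0, 0, 0, 0, 0], ![0, 0, 2, 0, 0, 0, 0, 0], ![0, 0, 0, 1, 0, 0, 0, 1],
      ![0, 0, 0, 0, 0, 0, 0, 0], ![0, 0, 0, 0, 0, 0, 0, 0], ![0, 0, 0, 0, 0, 0, 2, 0], ![0, 0, 0, 1, 0, 0, 0, 1],
      ![2, 0, 0, 0, 0, 0, 0, 0], ![0, 1, 0, 0, 0, 1, 0, 0], ![0, 0, 0, 0, 0, 0, 0, 0], ![0, 0, 0, 0, 0, 0, 0, 0]]

/-- Counts for the cube of that character. -/
def cntT3 : Fin 24 → Fin 8 → ℕ :=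
  ![![20, 0, 0, 0, 0, 0, 0, 0], ![0, 0, 20, 0, 0, 0, 0, 0], ![0, 0, 0, 0, 20, 0, 0, 0], ![0, 0, 0, 0, 0, 0, 20, 0],
      ![0, 0, 0, 0, 0, 0, 0, 0], ![0, 0, 0, 1, 0, 0, 0, 1], ![0, 0, 0, 0, 0, 0, 0, 0], ![0, 1, 0, 0, 0, 1, 0, 0],
      ![0, 0, 0, 0, 2, 0, 0, 0], ![0, 0, 0, 1, 0, 0, 0, 1], ![0, 0, 0, 0, 0, 0, 0, 0], ![0, 0, 0, 0, 0, 0, 0, 0],
      ![0, 0, 0, 0, 0, 0, 0, 0], ![0, 0, 0, 0, 0, 0, 0, 0], ![0, 0, 0, 0, 0, 0, 2, 0], ![0, 1, 0, 0, 0, 1, 0, 0],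
      ![0, 0, 0, 0, 0, 0, 0, 0], ![0, 0, 0, 0, 0, 0, 0, 0], ![0, 0, 2, 0, 0, 0, 0, 0], ![0, 1, 0, 0, 0, 1, 0, 0],
      ![2, 0, 0, 0, 0, 0, 0, 0], ![0, 0, 0, 1, 0, 0, 0, 1], ![0, 0, 0, 0, 0, 0, 0, 0], ![0, 0, 0, 0, 0, 0, 0, 0]]

/-- The tables. -/
def gtab : Fin 9 → Fin 24 → ℤ × ℤ :=
  ![![(0, 0), (0, -8), (0, 0), (0, 8), (0, 0), (0, 0), (0, 0), (0, 0), (0, 0), (0, 0), (0, -2), (0, 0), (0, 0),
      (0, 0), (0, -4), (0, 0), (0, 0), (0, 0), (0, 4), (0, 0), (0, 0), (0, 0), (0, 2), (0, 0)],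
    ![(0, 0), (4, 4), (-8, 0), (4, -4), (0, 0), (0, -2), (0, 0), (0, 2), (4, 0), (0, -2), (-1, 1), (0, 0), (0, 0),
      (0, 0), (-2, 2), (0, 2), (2, 0), (0, 0), (-2, -2), (0, 2), (0, 0), (0, -2), (-1, -1), (0, 0)],
    ![(0, 0), (-12, 0), (0, 0), (-12, 0), (4, 0), (0, -2), (0, 0), (0, 2), (0, 0), (0, -2), (-2, 0), (0, 0),
      (0, 0), (0, 0), (0, 0), (0, 2), (0, 0), (0, 0), (0, 0), (0, 2), (0, 0), (0, -2), (-2, 0), (0, 0)],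
    ![(0, 0), (-4, 4), (-8, 0), (-4, -4), (0, 0), (-2, 0), (0, 0), (-2, 0), (4, 0), (-2, 0), (1, 1), (0, 0),
      (0, 0), (0, 0), (2, 2), (-2, 0), (2, 0), (0, 0), (2, -2), (-2, 0), (0, 0), (-2, 0), (1, -1), (0, 0)],
    ![(0, 0), (12, 0), (0, 0), (12, 0), (4, 0), (-2, 0), (0, 0), (-2, 0), (0, 0), (-2, 0), (2, 0), (0, 0), (0, 0),
      (0, 0), (0, 0), (-2, 0), (0, 0), (0, 0), (0, 0), (-2, 0), (0, 0), (-2, 0), (2, 0), (0, 0)],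
    ![(0, 0), (4, 4), (-8, 0), (4, -4), (0, 0), (0, 2), (0, 0), (0, -2), (4, 0), (0, 2), (-1, 1), (0, 0), (0, 0),
      (0, 0), (-2, 2), (0, -2), (2, 0), (0, 0), (-2, -2), (0, -2), (0, 0), (0, 2), (-1, -1), (0, 0)],
    ![(0, 0), (-4, 4), (-8, 0), (-4, -4), (0, 0), (2, 0), (0, 0), (2, 0), (4, 0), (2, 0), (1, 1), (0, 0), (0, 0),
      (0, 0), (2, 2), (2, 0), (2, 0), (0, 0), (2, -2), (2, 0), (0, 0), (2, 0), (1, -1), (0, 0)],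
    ![(0, 0), (0, 12), (24, 0), (0, -12), (-4, 0), (0, 0), (0, 0), (0, 0), (0, 0), (0, 0), (0, -2), (0, 0), (0, 0),
      (0, 0), (0, 0), (0, 0), (4, 0), (0, 0), (0, 0), (0, 0), (0, 0), (0, 0), (0, 2), (0, 0)],
    ![(0, 0), (0, 12), (-24, 0), (0, -12), (4, 0), (0, 0), (0, 0), (0, 0), (0, 0), (0, 0), (0, -2), (0, 0), (0, 0),
      (0, 0), (0, 0), (0, 0), (-4, 0), (0, 0), (0, 0), (0, 0), (0, 0), (0, 0), (0, 2), (0, 0)]]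

/-- The Gram matrix. -/
def gram : Fin 9 → Fin 9 → ℤ :=
  ![![2, -1, 0, -1, 0, -1, -1, 0, 0], ![-1, 3, 1, 1, 0, 1, 1, 0, 0], ![0, 1, 3, 0, 0, -1, 0, -1, 1],
      ![-1, 1, 0, 3, 1, 1, 1, 0, 0], ![0, 0, 0, 1, 3, 0, -1, -1, 1], ![-1, 1, -1, 1, 0, 3, 1, 0, 0],
      ![-1, 1, 0, 1, -1, 1, 3, 0, 0], ![0, 0, -1, 0, -1, 0, 0, 4, -2], ![0, 0, 1, 0, 1, 0, 0, -2, 4]]

/-! ### Subgroups -/

/-- Upper triangular. -/
def pB : V → Bool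
  | (_, _, c, _) => decide (c = 0)

/-- A generator of a cyclic subgroup of order 24. -/
def w24 : V := (0, 3, 1, 1)

/-- The powers of the generator. -/
def pwList : List V :=
  [(1, 0, 0, 1), (0, 3, 1, 1), (3, 3, 1, 4), (3, 2, 4, 2), (2, 1, 2, 4), (1, 2, 4, 0), (2, 0, 0, 2), (0, 1, 2, 2),
      (1, 1, 2, 3), (1, 4, 3, 4), (4, 2, 4, 3), (2, 4, 3, 0), (4, 0, 0, 4), (0, 2, 4, 4), (2, 2, 4, 1),
      (2, 3, 1, 3), (3, 4, 3, 1), (4, 3, 1, 0), (3, 0, 0, 3), (0, 4, 3, 3), (4, 4, 3, 2), (4, 1, 2, 1),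
      (1, 3, 1, 2), (3, 1, 2, 0)]

/-- Commuting with the generator. -/
def pT : V → Bool := fun v => decide (mv v w24 = mv w24 v)

/-- Exponent modulo 8. -/
def lgT (m : Fin 8) (v : V) : Fin 8 :=
  Fin.ofNat 8 (pwList.idxOf v) * m

/-- The logarithm of a character of the diagonal. -/
def lgB (i j : Fin 4) : V → Fin 4
  | (a, _, _, d) => i * dlog a + j * dlog d

/-- Triangular matrices. -/
def Bor : Subgroup Q := cut pB (by decide +kernel) (by decide +kernel) (by decide +kernel)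

/-- The cyclic subgroup of order 24. -/
def Tor : Subgroup Q := cut pT (by decide +kernel) (by decide +kernel) (by decide +kernel)

theorem lgB_mul : ∀ v ∈ units.filter (fun v => pB v = true), ∀ w ∈ units.filter (fun v => pB v = true),
    ∀ i j : Fin 4, lgB i j (mv v w) = lgB i j v + lgB i j w := by decide +kernel

theorem lgT_mul : ∀ v ∈ units.filter (fun v => pT v = true), ∀ w ∈ units.filter (fun v => pT v = true),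
    ∀ m : Fin 8, lgT m (mv v w) = lgT m v + lgT m w := by decide +kernel

theorem card_pB : (units.filter fun v => pB v = true).card = 80 := by decide +kernel

theorem card_pT : (units.filter fun v => pT v = true).card = 24 := by decide +kernel

theorem cntB_spec : ∀ i j : Fin 4, i ≤ j → ∀ t k, cntOf pB (lgB i j) t k = 80 * cntB i j t k := by decide +kernel

theorem cntT1_spec : ∀ t k, cntOf pT (lgT 1) t k = 24 * cntT1 t k := by decide +kernel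

theorem cntT3_spec : ∀ t k, cntOf pT (lgT 3) t k = 24 * cntT3 t k := by decide +kernel

/-- The induced characters of the triangular subgroup. -/
def gR (i j : Fin 4) (t : Fin 24) : ℤ × ℤ :=
  ((cntB i j t 0 : ℤ) - cntB i j t 2, (cntB i j t 1 : ℤ) - cntB i j t 3)

/-- The induced characters of the cyclic subgroup. -/
def gTh (c : Fin 24 → Fin 8 → ℕ) (t : Fin 24) : ℤ × ℤ := ((c t 0 : ℤ) - c t 4, (c t 2 : ℤ) - c t 6)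

/-- The powers of the imaginary unit. -/
def gI : Fin 4 → ℤ × ℤ := ![(1, 0), (0, 1), (-1, 0), (0, -1)]

/-- The linear characters. -/
def gL (j : Fin 4) (t : Fin 24) : ℤ × ℤ := gI (j * dlog (dv (rep t)))

/-- The Steinberg twists. -/
def gS (j : Fin 4) (t : Fin 24) : ℤ × ℤ := gR j j t - gL j t

/-- The cuspidal characters. -/
def gC1 (t : Fin 24) : ℤ × ℤ := gmul (gR 0 3 t) (gR 0 0 t) - gR 0 3 t - gR 0 3 t - gTh cntT1 t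

/-- The cuspidal characters. -/
def gC3 (t : Fin 24) : ℤ × ℤ := gmul (gR 0 1 t) (gR 0 0 t) - gR 0 1 t - gR 0 1 t - gTh cntT3 t

/-! ### The table identities -/

theorem gtab_eq : ∀ t, gtab 0 t = gC1 t - gC3 t ∧ gtab 1 t = gL 3 t - gS 3 t + gC3 t ∧
    gtab 2 t = gL 3 t + gS 1 t - gR 1 3 t ∧ gtab 3 t = gL 2 t - gS 2 t + gC3 t ∧
    gtab 4 t = gL 2 t + gS 0 t - gR 0 2 t ∧ gtab 5 t = gL 1 t - gS 1 t + gC3 t ∧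
    gtab 6 t = gL 0 t - gS 0 t + gC3 t ∧ gtab 7 t = gR 0 2 t - gR 0 3 t - gR 1 2 t + gR 1 3 t ∧
    gtab 8 t = gR 0 1 t - gR 0 2 t - gR 1 3 t + gR 2 3 t := by decide +kernel

theorem gram_table : ∀ i j : Fin 9,
    ∑ t, gmul ((size t : ℤ), 0) (gmul (gtab i t) (gconj (gtab j t))) = (480 * gram i j, 0) := by decide +kernel

theorem trivial_table : ∀ i : Fin 9,
    ∑ t, gmul ((size t : ℤ), 0) (gmul (gtab i t) (gconj (1, 0))) = (480 * (![0, 0, 0, 0, 0, 0, 1, 0, 0] i), 0) := by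
  decide +kernel

/-- The classes with 2-part a root. -/
def din (t : Fin 24) : Bool := decide (t ∈ ([1, 2, 3, 4, 5, 7, 8, 9, 10, 14, 15, 16, 18, 19, 21, 22] : List (Fin 24)))

theorem gtab_supp : ∀ i t, gtab i t ≠ 0 → din t = true := by decide +kernel

theorem din_root : ∀ t, din t = true → ∃ k ∈ Finset.range 24, (fun w : V => Nat.rec ov (fun _ r => mv w r) k) (rep t) = rep 2 := by
  decide +kernel

end Cfsg.Agent.Invol.GL25
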