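import Mathlib
import Cfsg.Agent.Lib.Char.Induce
import Cfsg.Agent.Lib.Char.StarWeights

/-!
# `GL(2,5)`: classes, subgroups and induced linear characters

Matrices are quadruples over `ZMod 5`; a class is given by the scalar or by trace and determinant.
-/

set_option autoImplicit false
set_option maxRecDepth 100000

namespace Cfsg.Agent.Invol.GL25

open scoped ComplexConjugate
open Cfsg Cfsg.Agent.Char Cfsg.Agent.Block Matrix

/-- The group. -/
abbrev Q : Type := GL (Fin 2) (ZMod 5)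

/-- Matrices as quadruples. -/
abbrev V : Type := ZMod 5 × ZMod 5 × ZMod 5 × ZMod 5

/-- Determinant. -/
def dv : V → ZMod 5
  | (a, b, c, d) => a * d - b * c

/-- Product. -/
def mv : V → V → V
  | (a, b, c, d), (a', b', c', d') =>
    (a * a' + b * c', a * b' + b * d', c * a' + d * c', c * b' + d * d')

/-- The identity. -/
def ov : V := (1, 0, 0, 1)

/-- Inverse. -/
def iv : V → V
  | (a, b, c, d) =>
    let e := dv (a, b, c, d) * dv (a, b, c, d) * dv (a, b, c, d)
    (e * d, -(e * b), -(e * c), e * a)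

/-- The quadruple of a matrix. -/
def toV (g : Q) : V :=
  ((g : Matrix (Fin 2) (Fin 2) (ZMod 5)) 0 0, (g : Matrix (Fin 2) (Fin 2) (ZMod 5)) 0 1,
    (g : Matrix (Fin 2) (Fin 2) (ZMod 5)) 1 0, (g : Matrix (Fin 2) (Fin 2) (ZMod 5)) 1 1)

theorem toV_injective : Function.Injective toV := fun g h e => by
  simp only [toV, Prod.mk.injEq] at e
  exact Units.ext (by ext i j; fin_cases i <;> fin_cases j <;> simp [e])

theorem toV_one : toV 1 = ov := by simp [toV, ov]

theorem toV_mul (g h : Q) : toV (g * h) = mv (toV g) (toV h) := by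
  simp [toV, mv, Matrix.mul_apply, Fin.sum_univ_two]

theorem dv_toV (g : Q) : dv (toV g) = (g : Matrix (Fin 2) (Fin 2) (ZMod 5)).det := by
  simp [toV, dv, Matrix.det_fin_two]

theorem dv_ne_zero (g : Q) : dv (toV g) ≠ 0 := by
  haveI : Fact (Nat.Prime 5) := ⟨Nat.prime_five⟩
  rw [dv_toV]; exact ((Matrix.isUnit_iff_isUnit_det _).1 g.isUnit).ne_zero

theorem toV_surj {v : V} (hv : dv v ≠ 0) : ∃ g : Q, toV g = v := by
  haveI : Fact (Nat.Prime 5) := ⟨Nat.prime_five⟩
  obtain ⟨a, b, c, d⟩ := v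
  have hu : IsUnit (!![a, b; c, d] : Matrix (Fin 2) (Fin 2) (ZMod 5)) :=
    (Matrix.isUnit_iff_isUnit_det _).2 (by rw [Matrix.det_fin_two_of]; exact isUnit_iff_ne_zero.2 hv)
  exact ⟨hu.unit, by simp [toV, IsUnit.unit_spec]⟩

/-- The invertible quadruples. -/
def units : Finset V := Finset.univ.filter fun v => dv v ≠ 0

theorem mem_units (g : Q) : toV g ∈ units := Finset.mem_filter.2 ⟨Finset.mem_univ _, dv_ne_zero g⟩

theorem iv_spec : ∀ v ∈ units, dv (iv v) ≠ 0 ∧ mv (iv v) v = ov := by decide +kernel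

theorem toV_inv (g : Q) : toV g⁻¹ = iv (toV g) := by
  obtain ⟨h1, h2⟩ := iv_spec _ (mem_units g)
  obtain ⟨k, hk⟩ := toV_surj h1
  rw [← hk] at h2 ⊢
  rw [← toV_mul, ← toV_one] at h2
  rw [eq_inv_of_mul_eq_one_left (toV_injective h2)]

theorem sum_toV {M : Type*} [AddCommMonoid M] (f : V → M) : ∑ g : Q, f (toV g) = ∑ v ∈ units, f v := by
  refine Finset.sum_bij (fun g _ => toV g) (fun g _ => mem_units g)
    (fun g _ h _ e => toV_injective e) (fun v hv => ?_) fun g _ => rfl
  obtain ⟨g, hg⟩ := toV_surj (Finset.mem_filter.1 hv).2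
  exact ⟨g, Finset.mem_univ _, hg⟩

theorem card_Q : Nat.card Q = 480 := by
  haveI : Fact (Nat.Prime 5) := ⟨Nat.prime_five⟩
  rw [Matrix.card_GL_field]; simp [Fin.prod_univ_two]

/-- Conjugate. -/
def cjv (v w : V) : V := mv (mv (iv v) w) v

theorem toV_conj (x g : Q) : toV (x⁻¹ * g * x) = cjv (toV x) (toV g) := by
  rw [toV_mul, toV_mul, toV_inv]; rfl

/-! ### Classes -/

/-- The logarithm to the base `2`. -/
def dlog (a : ZMod 5) : Fin 4 :=
  if a = 2 then 1 else if a = 4 then 2 else if a = 3 then 3 else 0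

/-- The class: scalars, then trace and determinant. -/
def tyv : V → Fin 24
  | (a, b, c, d) =>
    if b = 0 ∧ c = 0 ∧ a = d then ⟨(dlog a : ℕ), by omega⟩
    else ⟨4 + 4 * (a + d).val + (dlog (dv (a, b, c, d)) : ℕ), by
      have := ZMod.val_lt (a + d)
      omega⟩

/-- The class of an element. -/
def ty (g : Q) : Fin 24 := tyv (toV g)

/-- Representatives. -/
def rep : Fin 24 → V :=
  ![(1, 0, 0, 1), (2, 0, 0, 2), (4, 0, 0, 4), (3, 0, 0, 3),
    (0, 4, 1, 0), (0, 3, 1, 0), (0, 1, 1, 0), (0, 2, 1, 0),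
    (0, 4, 1, 1), (0, 3, 1, 1), (0, 1, 1, 1), (0, 2, 1, 1),
    (0, 4, 1, 2), (0, 3, 1, 2), (0, 1, 1, 2), (0, 2, 1, 2),
    (0, 4, 1, 3), (0, 3, 1, 3), (0, 1, 1, 3), (0, 2, 1, 3),
    (0, 4, 1, 4), (0, 3, 1, 4), (0, 1, 1, 4), (0, 2, 1, 4)]

/-- The class sizes. -/
def size : Fin 24 → ℕ :=
  ![1, 1, 1, 1, 30, 20, 30, 20, 20, 20, 24, 30, 24, 30, 20, 20, 24, 30, 20, 20, 20, 20, 24, 30]

theorem rep_spec : ∀ j, dv (rep j) ≠ 0 ∧ tyv (rep j) = j := by decide +kernel

theorem size_spec : ∀ j : Fin 24, (units.filter fun v => tyv v = j).card = size j := by decide +kernel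

theorem class_spec : ∀ j : Fin 24, ∀ v ∈ units, tyv (cjv v (rep j)) = j := by decide +kernel

theorem orbit_spec : ∀ j : Fin 24, (units.image fun v => cjv v (rep j)).card = size j := by decide +kernel

theorem orbit_eq (j : Fin 24) : units.image (fun v => cjv v (rep j)) = units.filter fun v => tyv v = j := by
  refine Finset.eq_of_subset_of_card_le (fun w hw => ?_) (by rw [size_spec, orbit_spec])
  obtain ⟨v, hv, rfl⟩ := Finset.mem_image.1 hw
  obtain ⟨x, rfl⟩ := toV_surj (Finset.mem_filter.1 hv).2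
  obtain ⟨r, hr⟩ := toV_surj (rep_spec j).1
  refine Finset.mem_filter.2 ⟨?_, class_spec j _ hv⟩
  rw [← hr, ← toV_conj]
  exact mem_units _

/-- The element of a representative. -/
noncomputable def el (j : Fin 24) : Q := (toV_surj (rep_spec j).1).choose

theorem toV_el (j : Fin 24) : toV (el j) = rep j := (toV_surj (rep_spec j).1).choose_spec

theorem ty_el (j : Fin 24) : ty (el j) = j := by rw [ty, toV_el]; exact (rep_spec j).2

theorem isConj_el (g : Q) : ∃ x : Q, x⁻¹ * el (ty g) * x = g := by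
  have hg : toV g ∈ units.filter fun v => tyv v = ty g := Finset.mem_filter.2 ⟨mem_units g, rfl⟩
  rw [← orbit_eq, Finset.mem_image] at hg
  obtain ⟨v, hv, hvg⟩ := hg
  obtain ⟨x, rfl⟩ := toV_surj (Finset.mem_filter.1 hv).2
  exact ⟨x, toV_injective (by rw [toV_conj, toV_el, hvg])⟩

theorem classFun_ty {f : Q → ℂ} (hf : IsClassFunction Q f) (g : Q) : f g = f (el (ty g)) := by
  obtain ⟨x, hx⟩ := isConj_el g
  have h := hf (el (ty g)) x⁻¹
  rw [inv_inv] at h
  rw [← h, hx]

theorem ty_conj (x g : Q) : ty (x⁻¹ * g * x) = ty g := by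
  obtain ⟨y, hy⟩ := isConj_el g
  conv_lhs => rw [← hy]
  rw [show x⁻¹ * (y⁻¹ * el (ty g) * y) * x = (y * x)⁻¹ * el (ty g) * (y * x) by group]
  show tyv (toV _) = _
  rw [toV_conj, toV_el]
  exact class_spec _ _ (mem_units _)

theorem sum_ty {M : Type*} [AddCommMonoid M] (f : Fin 24 → M) :
    ∑ g : Q, f (ty g) = ∑ j : Fin 24, size j • f j := by
  rw [show ∑ g : Q, f (ty g) = ∑ v ∈ units, f (tyv v) from sum_toV fun v => f (tyv v),
    ← Finset.sum_fiberwise units tyv]
  refine Finset.sum_congr rfl fun j _ => ?_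
  rw [Finset.sum_congr rfl fun v hv => by rw [(Finset.mem_filter.1 hv).2], Finset.sum_const, size_spec]

theorem classInner_ty (f h : Fin 24 → ℂ) :
    classInner (fun g : Q => f (ty g)) (fun g => h (ty g)) =
      (480 : ℂ)⁻¹ * ∑ j : Fin 24, (size j : ℂ) * (f j * conj (h j)) := by
  rw [classInner, card_Q, sum_ty fun j => f j * conj (h j)]
  simp [nsmul_eq_mul]

/-! ### Linear characters of subgroups -/

/-- The subgroup cut out by a test on quadruples. -/
def cut (p : V → Bool) (h1 : p ov = true)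
    (hm : ∀ v ∈ units.filter (fun v => p v = true), ∀ w ∈ units.filter (fun v => p v = true), p (mv v w) = true)
    (hi : ∀ v ∈ units.filter (fun v => p v = true), p (iv v) = true) : Subgroup Q where
  carrier := {g | p (toV g) = true}
  one_mem' := by show p (toV 1) = true; rw [toV_one]; exact h1
  mul_mem' := fun {g h} hg hh => by
    show p (toV (g * h)) = true
    rw [toV_mul]
    exact hm _ (Finset.mem_filter.2 ⟨mem_units g, hg⟩) _ (Finset.mem_filter.2 ⟨mem_units h, hh⟩)
  inv_mem' := fun {g} hg => by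
    show p (toV g⁻¹) = true
    rw [toV_inv]
    exact hi _ (Finset.mem_filter.2 ⟨mem_units g, hg⟩)

theorem mem_cut {p : V → Bool} {h1 hm hi} {g : Q} : g ∈ cut p h1 hm hi ↔ p (toV g) = true := Iff.rfl

theorem card_cut {p : V → Bool} {h1 hm hi} :
    Nat.card (cut p h1 hm hi) = (units.filter fun v => p v = true).card := by
  rw [← Nat.card_eq_finsetCard]
  refine Nat.card_congr (Equiv.ofBijective (fun g => ⟨toV (g : Q),
    Finset.mem_filter.2 ⟨mem_units _, g.2⟩⟩) ⟨fun g h e => ?_, fun v => ?_⟩)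
  · exact Subtype.ext (toV_injective (congrArg Subtype.val e))
  · obtain ⟨g, hg⟩ := toV_surj (Finset.mem_filter.1 (Finset.mem_filter.1 v.2).1).2
    exact ⟨⟨g, by rw [mem_cut, hg]; exact (Finset.mem_filter.1 v.2).2⟩, Subtype.ext hg⟩

theorem isUnit_of_pow {m : ℕ} {z : ℂ} (hz : z ^ m = 1) (hm : m ≠ 0) : IsUnit z :=
  IsUnit.of_pow_eq_one hz hm

/-- A linear character given by a logarithm. -/
noncomputable def logHom {m : ℕ} [NeZero m] (z : ℂ) (hz : z ^ m = 1) {p : V → Bool} {h1 hm hi}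
    (lg : V → Fin m)
    (hl : ∀ v ∈ units.filter (fun v => p v = true), ∀ w ∈ units.filter (fun v => p v = true),
      lg (mv v w) = lg v + lg w) : cut p h1 hm hi →* ℂˣ :=
  MonoidHom.mk' (fun g => (isUnit_of_pow hz (NeZero.ne m)).unit ^ (lg (toV (g : Q)) : ℕ)) fun g h => by
    show _ ^ (lg (toV ((g : Q) * h)) : ℕ) = _
    rw [toV_mul, hl _ (Finset.mem_filter.2 ⟨mem_units _, g.2⟩) _ (Finset.mem_filter.2 ⟨mem_units _, h.2⟩),
      ← pow_add, Fin.val_add, ← pow_eq_pow_mod]
    exact Units.ext (by simp [hz])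

theorem logHom_apply {m : ℕ} [NeZero m] (z : ℂ) (hz : z ^ m = 1) {p : V → Bool} {h1 hm hi} (lg : V → Fin m)
    (hl) (g : cut p h1 hm hi) :
    (logHom z hz (h1 := h1) (hm := hm) (hi := hi) lg hl g : ℂ) = z ^ (lg (toV (g : Q)) : ℕ) := by
  simp [logHom]

/-- How often each power occurs among the conjugates of a representative. -/
def cntOf {m : ℕ} (p : V → Bool) (lg : V → Fin m) (j : Fin 24) (k : Fin m) : ℕ :=
  (units.filter fun v => p (cjv v (rep j)) = true ∧ lg (cjv v (rep j)) = k).card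

theorem ind_log {m : ℕ} [NeZero m] (z : ℂ) (hz : z ^ m = 1) {p : V → Bool} {h1 hm hi} (lg : V → Fin m)
    (hl) {c : ℕ} (hc : (units.filter fun v => p v = true).card = c) (cnt : Fin 24 → Fin m → ℕ)
    (hcnt : ∀ j k, cntOf p lg j k = c * cnt j k) (g : Q) :
    indFun (cut p h1 hm hi) (fun h => (logHom z hz (h1 := h1) (hm := hm) (hi := hi) lg hl h : ℂ)) g =
      ∑ k : Fin m, (cnt (ty g) k : ℂ) * z ^ (k : ℕ) := by
  classical
  rw [classFun_ty (indFun_classFun _ _) g]
  generalize ty g = j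
  have hterm : ∀ x : Q, extendByZero (cut p h1 hm hi)
      (fun h => (logHom z hz (h1 := h1) (hm := hm) (hi := hi) lg hl h : ℂ)) (x⁻¹ * el j * x) =
      ∑ k : Fin m, if p (cjv (toV x) (rep j)) = true ∧ lg (cjv (toV x) (rep j)) = k then z ^ (k : ℕ) else 0 := by
    intro x
    have hv : toV (x⁻¹ * el j * x) = cjv (toV x) (rep j) := by rw [toV_conj, toV_el]
    by_cases h : x⁻¹ * el j * x ∈ cut p h1 hm hi
    · rw [extendByZero_of_mem _ h, logHom_apply]
      have hp : p (cjv (toV x) (rep j)) = true := by rw [← hv]; exact h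
      simp only [hp, true_and, hv, Finset.sum_ite_eq, Finset.mem_univ, if_true]
    · have hp : ¬ p (cjv (toV x) (rep j)) = true := by rw [← hv]; exact h
      rw [extendByZero_not_mem _ h]
      simp [hp]
  have hcc : Nat.card (cut p h1 hm hi) = c := card_cut.trans hc
  have hc0 : (c : ℂ) ≠ 0 := by rw [← hcc]; exact Nat.cast_ne_zero.2 Nat.card_pos.ne'
  simp only [indFun, hterm]
  rw [hcc, sum_toV (fun v => ∑ k : Fin m,
    if p (cjv v (rep j)) = true ∧ lg (cjv v (rep j)) = k then z ^ (k : ℕ) else 0), Finset.sum_comm,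
    Finset.sum_congr rfl fun k _ => by
      rw [← Finset.sum_filter, Finset.sum_const, nsmul_eq_mul,
        show (units.filter fun v => p (cjv v (rep j)) = true ∧ lg (cjv v (rep j)) = k).card = c * cnt j k from
          hcnt j k, Nat.cast_mul, mul_assoc],
    ← Finset.mul_sum, inv_mul_cancel_left₀ hc0]

end Cfsg.Agent.Invol.GL25
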